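import Mathlib
import Cfsg.Agent.H163.E6.Defs
import Cfsg.Agent.H882.E6Five

/-!
# S5927, case `n = 5`, `p = 2` (helper710)
-/

set_option autoImplicit false

namespace Cfsg.Agent.H710.E6C

open Equiv Module Cfsg Cfsg.Lie
open Cfsg.Agent.ChevalleyStructure.E6Min.Tables Cfsg.Agent.ChevalleyStructure.E6Min.Basic
  Cfsg.Agent.ChevalleyStructure.E6Min.Adjoint
open Cfsg.Agent.H163.E6 (V V' Tab scal)
open Cfsg.Agent.H952.F4 (ev es tf GenT v0 c3 z5)
open Cfsg.Agent.H952.F4.Cases.Five (inv5 inv3 v0_sq v0_ne c3_cube c3_ne z5_five z5_ne gen235 powo ne_one_of_order ev_two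
  ev_three ev_five)

universe u

/-- the core for `p = 2`, `n = 5` -/
theorem core5 {E : Type u} [Field E] [CharP E 2] (T : Tab 2 E)
    (tf_act : ∀ (g : ↥(Zgrp E)) (x y : I27 → E), tf (V E g x) (V' E g y) = tf x y)
    (had : ∀ g : ↥(Zgrp E), ad E g = 1 → ∃ c : Eˣ, c ^ 3 = 1 ∧ (g : GL I27 E) = scal c)
    (θ : ↥(alternatingGroup (Fin 5)) →* ↥(Zgrp E))
    (h1 : Representation.invariants (MonoidHom.comp (V E) θ) = ⊥)
    (h2 : Representation.invariants (MonoidHom.comp (V' E) θ) = ⊥) : False := by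
  have hp2 : Fact (Nat.Prime 2) := ⟨Nat.prime_two⟩
  have hne : ∀ a, a ≠ 1 → θ a ≠ 1 := by
    intro a ha h
    have h3 : ∀ b, θ b = 1 := H882.E6Five.hom_trivial θ ha h
    have h4 : (fun _ => (1 : E) : I27 → E) ∈ Representation.invariants (MonoidHom.comp (V E) θ) := by
      rw [Representation.mem_invariants]
      intro g
      rw [MonoidHom.comp_apply, h3, map_one]
      rfl
    rw [h1, Submodule.mem_bot] at h4
    exact one_ne_zero (congrFun h4 (0, 0, 0))
  let ρ : Representation E ↥(alternatingGroup (Fin 5)) (I27 → E) := MonoidHom.comp (V E) θ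
  have hρ : ∀ a, ρ a = V E (θ a) := fun a => rfl
  have hdim : finrank E (I27 → E) = 27 := by
    rw [Module.finrank_fintype_fun_eq_card]
    decide
  have s3 : θ c3 ^ 3 = 1 := by rw [← map_pow, c3_cube, map_one]
  have s5 : θ z5 ^ 5 = 1 := by rw [← map_pow, z5_five, map_one]
  have r3 : ∃ g, g * θ c3 * g⁻¹ = (θ c3)⁻¹ := by
    obtain ⟨s, -, -, hs⟩ := inv3
    exact ⟨θ s, by rw [← map_inv, ← map_mul, ← map_mul, hs, map_inv]⟩
  have r5 : ∃ g, g * θ z5 * g⁻¹ = (θ z5)⁻¹ := ⟨θ v0, by rw [← map_inv, ← map_mul, ← map_mul, inv5, map_inv]⟩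
  have had3 : ad E (θ c3) ≠ 1 := by
    intro h
    obtain ⟨c, hc3, hc⟩ := had _ h
    obtain ⟨g, hg⟩ := r3
    have e1 : ((θ c3)⁻¹ : ↥(Zgrp E)) = θ c3 := by
      rw [← hg, mul_inv_eq_iff_eq_mul]
      apply Subtype.ext
      rw [Subgroup.coe_mul, Subgroup.coe_mul, hc]
      apply Units.ext
      show ((g : GL I27 E) : Matrix I27 I27 E) * algebraMap E _ (c : E) =
        algebraMap E _ (c : E) * ((g : GL I27 E) : Matrix I27 I27 E)
      exact (Algebra.commutes _ _).symm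
    have e2 : θ c3 * θ c3 = 1 := by
      nth_rewrite 1 [← e1]
      exact inv_mul_cancel _
    have e3 : θ c3 = 1 := by
      have := s3
      rwa [pow_succ, pow_two, e2, one_mul] at this
    exact hne c3 c3_ne e3
  have f3 : 9 ≤ ev (ρ c3) 1 := by
    have h := T.three (by norm_num) (θ c3) had3 s3
    have h' := T.three_real (by norm_num) (θ c3) had3 s3 r3
    rw [hρ]
    omega
  have f5 := T.five (by norm_num) (θ z5) (hne _ z5_ne) s5 r5
  have f2 : 14 ≤ ev (ρ v0) 1 := by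
    have h := H952.F4.Eig.le_mul_ev 2 (T := ρ v0) (by rw [pow_two, ← map_mul, v0_sq, map_one])
    rw [hdim] at h
    omega
  rw [← hρ] at f5
  obtain ⟨x, y, hgen, hx, hy, hxy⟩ := gen235 H952.F4.Gen.gen5
  have hsc := H952.F4.Scott.scott ρ hgen
  have hd := H882.E6Five.dual_bot tf_act θ h2
  have hsc' : ev (ρ x) 1 + ev (ρ y) 1 + ev (ρ (x * y)) 1 ≤ 27 := by
    have e1 : ρ.invariants = ⊥ := h1
    have e2 : ρ.dual.invariants = ⊥ := hd
    rw [e1, e2, finrank_bot, finrank_bot, hdim] at hsc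
    exact hsc
  rw [ev_two (ρ := ρ) (g := x) (by rw [← pow_two]; exact powo hx) (ne_one_of_order hx (by norm_num)),
    ev_three (ρ := ρ) (g := y) (powo hy) (ne_one_of_order hy (by norm_num)),
    ev_five (ρ := ρ) (g := x * y) (powo hxy) (ne_one_of_order hxy (by norm_num))] at hsc'
  omega

end Cfsg.Agent.H710.E6C
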