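import Mathlib
import Cfsg.Agent.H710.E6C.Elt

/-!
# S5927, case `n = 7`, `p = 7`: the main argument over an algebraically closed field (helper710)
-/

set_option autoImplicit false

namespace Cfsg.Agent.H710.E6C

open Equiv Module Cfsg Cfsg.Lie
open Cfsg.Agent.ChevalleyStructure.E6Min.Tables Cfsg.Agent.ChevalleyStructure.E6Min.Basic
  Cfsg.Agent.ChevalleyStructure.E6Min.Adjoint
open Cfsg.Agent.H163.E6 (V V' Tab scal)
open Cfsg.Agent.H952.F4 (ev es tf GenT)
open Cfsg.Agent.H952.F4.Jord
open Cfsg.Agent.H952.F4.Cases.Five (ev_conj)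

universe u

section

variable {E : Type u} [Field E]

theorem dim27 : finrank E (I27 → E) = 27 := by
  rw [Module.finrank_fintype_fun_eq_card]
  decide

/-- traces are class functions -/
theorem trace_conj {G W : Type*} [Group G] [AddCommGroup W] [Module E W] (ρ : Representation E G W) (g h : G) :
    LinearMap.trace E W (ρ (g * h * g⁻¹)) = LinearMap.trace E W (ρ h) := by
  rw [map_mul, LinearMap.trace_mul_comm, ← map_mul, ← mul_assoc, inv_mul_cancel, one_mul]

theorem NS.ev {m : Multiset ℕ} (h : NS m) (ρ : Representation E A7 (I27 → E)) {g g' : A7} (hg : ct g = m)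
    (hg' : ct g' = m) : H952.F4.ev (ρ g) 1 = H952.F4.ev (ρ g') 1 := by
  obtain ⟨k, rfl⟩ := h g g' hg hg'
  exact (ev_conj ρ k g).symm

theorem NS.tr {m : Multiset ℕ} (h : NS m) (ρ : Representation E A7 (I27 → E)) {g g' : A7} (hg : ct g = m)
    (hg' : ct g' = m) : LinearMap.trace E _ (ρ g) = LinearMap.trace E _ (ρ g') := by
  obtain ⟨k, rfl⟩ := h g g' hg hg'
  exact (trace_conj ρ k g).symm

/-- homomorphisms of `A₇` are injective or trivial -/
theorem inj_of {G : Type*} [Group G] (θ : A7 →* G) {a : A7} (ha : θ a ≠ 1) {b : A7} (hb : b ≠ 1) : θ b ≠ 1 := by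
  have hS : IsSimpleGroup A7 := alternatingGroup.isSimpleGroup (α := Fin 7) (by simp)
  intro h
  rcases (inferInstance : θ.ker.Normal).eq_bot_or_eq_top with h1 | h1
  · have : b ∈ θ.ker := h
    rw [h1, Subgroup.mem_bot] at this
    exact hb this
  · have : a ∈ θ.ker := by rw [h1]; trivial
    exact ha this

/-- the core for `p = 7`, `n = 7` -/
theorem core7 [IsAlgClosed E] [CharP E 7] (T : Tab 7 E)
    (tf_act : ∀ (g : ↥(Zgrp E)) (x y : I27 → E), tf (V E g x) (V' E g y) = tf x y)
    (had : ∀ g : ↥(Zgrp E), ad E g = 1 → ∃ c : Eˣ, c ^ 3 = 1 ∧ (g : GL I27 E) = scal c)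
    (θ : A7 →* ↥(Zgrp E))
    (h1 : Representation.invariants (MonoidHom.comp (V E) θ) = ⊥)
    (h2 : Representation.invariants (MonoidHom.comp (V' E) θ) = ⊥) : False := by
  have c7 : (7 : E) = 0 := by exact_mod_cast CharP.cast_eq_zero E 7
  have hp7 : Fact (Nat.Prime 7) := ⟨by norm_num⟩
  have two_ne : (2 : E) ≠ 0 := by
    intro h
    have : (1 : E) = 0 := by linear_combination c7 - 3 * h
    exact one_ne_zero this
  have three_ne : (3 : E) ≠ 0 := by
    intro h
    have : (1 : E) = 0 := by linear_combination c7 - 2 * h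
    exact one_ne_zero this
  -- nontriviality
  have hne : ∀ a, a ≠ 1 → θ a ≠ 1 := by
    have hex : ∃ a, θ a ≠ 1 := by
      by_contra hne
      push Not at hne
      have h4 : (fun _ => (1 : E) : I27 → E) ∈ Representation.invariants (MonoidHom.comp (V E) θ) := by
        rw [Representation.mem_invariants]
        intro g
        rw [MonoidHom.comp_apply, hne, map_one]
        rfl
      rw [h1, Submodule.mem_bot] at h4
      exact one_ne_zero (congrFun h4 (0, 0, 0))
    obtain ⟨a, ha⟩ := hex
    exact fun b hb => inj_of θ ha hb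
  let ρ : Representation E A7 (I27 → E) := MonoidHom.comp (V E) θ
  have hρ : ∀ a, ρ a = V E (θ a) := fun a => rfl
  have i1 : ρ.invariants = ⊥ := h1
  have i2 : ρ.dual.invariants = ⊥ := H882.E6Five.dual_bot tf_act θ h2
  -- Scott's lemma
  have hsc : ∀ {a b c : Multiset ℕ}, GenT 7 a b c → ∃ x y : A7, ct x = a ∧ ct y = b ∧ ct (x * y) = c ∧
      ev (ρ x) 1 + ev (ρ y) 1 + ev (ρ (x * y)) 1 ≤ 27 := by
    intro a b c hg
    obtain ⟨x, y, hgen, hx, hy, hxy⟩ := hg
    have hs := H952.F4.Scott.scott ρ hgen
    rw [i1, i2, finrank_bot, finrank_bot, dim27] at hs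
    exact ⟨x, y, hx, hy, hxy, hs⟩
  -- elements of order 7
  have g7 : ∀ g : A7, ct g = {7} → 4 ≤ ev (ρ g) 1 := by
    intro g hg
    have h := H952.F4.Eig.le_mul_ev 7 (T := ρ g) (by
      rw [← map_pow, pow_of_ct hg (by rfl), map_one])
    rw [dim27] at h
    omega
  -- reality
  have hreal : ∀ {m : Multiset ℕ}, NS m → ∀ g : A7, ct g = m → ∃ k, k * θ g * k⁻¹ = (θ g)⁻¹ := by
    intro m hm g hg
    obtain ⟨k, hk⟩ := hm.real hg
    exact ⟨θ k, by rw [← map_inv, ← map_mul, ← map_mul, hk, map_inv]⟩
  -- elements of order 3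
  have g3 : ∀ {m : Multiset ℕ}, NS m → m ≠ 0 → m.lcm = 3 → ∀ g : A7, ct g = m →
      (ev (ρ g) 1 = 15 ∧ LinearMap.trace E _ (ρ g) = 9) ∨ (ev (ρ g) 1 = 9 ∧ LinearMap.trace E _ (ρ g) = 0) := by
    intro m hm hm0 hl g hg
    have s3 : θ g ^ 3 = 1 := by rw [← map_pow, pow_of_ct hg hl, map_one]
    have r3 := hreal hm g hg
    have had3 : ad E (θ g) ≠ 1 := by
      intro h
      obtain ⟨c, hc3, hc⟩ := had _ h
      obtain ⟨k, hk⟩ := r3
      have e1 : ((θ g)⁻¹ : ↥(Zgrp E)) = θ g := by
        rw [← hk, mul_inv_eq_iff_eq_mul]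
        apply Subtype.ext
        rw [Subgroup.coe_mul, Subgroup.coe_mul, hc]
        apply Units.ext
        show ((k : GL I27 E) : Matrix I27 I27 E) * algebraMap E _ (c : E) =
          algebraMap E _ (c : E) * ((k : GL I27 E) : Matrix I27 I27 E)
        exact (Algebra.commutes _ _).symm
      have e2 : θ g * θ g = 1 := by
        nth_rewrite 1 [← e1]
        exact inv_mul_cancel _
      have e3 : θ g = 1 := by
        have := s3
        rwa [pow_succ, pow_two, e2, one_mul] at this
      exact hne g (ne_one_of_ct hg hm0) e3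
    have h := T.three (by norm_num) (θ g) had3 s3
    have h' := T.three_real (by norm_num) (θ g) had3 s3 r3
    rw [hρ]
    rcases h with h | h | h | h
    · exact Or.inl ⟨h.1, h.2.2.1⟩
    · exact Or.inr ⟨h.1, h.2.2.1⟩
    · exact Or.inr ⟨h.1, h.2.2.1⟩
    · exact absurd h.1 h'
  -- elements of order 2
  have g2 : ∀ g : A7, ct g = {2, 2} → (ev (ρ g) 1 = 15 ∧ LinearMap.trace E _ (ρ g) = 3) ∨ ev (ρ g) 1 = 11 := by
    intro g hg
    have h := T.two (by norm_num) (θ g) (hne g (ne_one_of_ct hg (by decide)))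
      (by rw [← map_mul, ← pow_two, pow_of_ct hg (by rfl), map_one])
    rcases h with h | h
    · exact Or.inl ⟨h.1, h.2.2.1⟩
    · exact Or.inr h.1
  -- the involutions have type 15
  have hf2 : ∀ g : A7, ct g = {2, 2} → ev (ρ g) 1 = 15 ∧ LinearMap.trace E _ (ρ g) = 3 := by
    have hall : ev (ρ a0) 1 ≠ 11 := by
      intro h11
      have c11 : ∀ g : A7, ct g = {2, 2} → ev (ρ g) 1 = 11 := fun g hg => (ns2.ev ρ hg ct_a0).trans h11
      -- the four-groups
      have key : ∀ a b t : A7, ct a = {2, 2} → ct b = {2, 2} → ct (a * b) = {2, 2} → a * a = 1 → b * b = 1 →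
          a * b = b * a → t ^ 3 = 1 → t * a * t⁻¹ = b → t * b * t⁻¹ = a * b → ev (ρ t) 1 ≤ 11 := by
        intro a b t ha hb hab ha2 hb2 hcm ht hta htb
        have e1 := H952.F4.Eig.four two_ne ρ ha2 hb2 hcm
        have e2 := H952.F4.Eig.a4 two_ne ρ ha2 hb2 hcm ht hta htb
        rw [c11 a ha, c11 b hb, c11 _ hab, dim27] at e1
        rw [dim27] at e2
        have e3 : finrank E ↥(es (ρ a) 1 ⊓ es (ρ b) 1 ⊓ es (ρ t) 1) ≤ finrank E ↥(es (ρ a) 1 ⊓ es (ρ b) 1) :=
          Submodule.finrank_mono inf_le_left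
        omega
      have k0 := key a0 b0 t0 (by decide +kernel) (by decide +kernel) (by decide +kernel) (by decide +kernel)
        (by decide +kernel) (by decide +kernel) (by decide +kernel) (by decide +kernel) (by decide +kernel)
      have k1 := key a1 b1 t1 (by decide +kernel) (by decide +kernel) (by decide +kernel) (by decide +kernel)
        (by decide +kernel) (by decide +kernel) (by decide +kernel) (by decide +kernel) (by decide +kernel)
      have l0 : ev (ρ t0) 1 = 9 := by
        rcases g3 ns3 (by decide) (by rfl) t0 ct_t0 with h | h <;> omega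
      have l1 : ev (ρ t1) 1 = 9 := by
        rcases g3 ns33 (by decide) (by rfl) t1 ct_t1 with h | h <;> omega
      have h9 := H952.F4.Eig.nine three_ne ρ (z := zz) (w := ww) (s := sg) (by decide +kernel) (by decide +kernel)
        (by decide +kernel) (by decide +kernel) (by decide +kernel) (by decide +kernel)
      rw [dim27, c11 sg (by decide +kernel), ns3.ev ρ (g := zz) (by decide +kernel) ct_t0,
        ns3.ev ρ (g := ww) (by decide +kernel) ct_t0, ns33.ev ρ (g := zz * ww) (by decide +kernel) ct_t1,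
        ns33.ev ρ (g := zz * ww⁻¹) (by decide +kernel) ct_t1, l0, l1] at h9
      omega
    intro g hg
    rcases g2 g hg with h | h
    · exact h
    · exact absurd ((ns2.ev ρ ct_a0 hg).trans h) hall
  -- the elements of order 3 have type 9
  have hf3 : ∀ g : A7, ct g = {3} ∨ ct g = {3, 3} → ev (ρ g) 1 = 9 ∧ LinearMap.trace E _ (ρ g) = 0 := by
    obtain ⟨x, y, hx, hy, hxy, hs⟩ := hsc gen7a
    have k7 := g7 _ hxy
    have kx := g3 ns3 (by decide) (by rfl) x hx
    have ky := g3 ns33 (by decide) (by rfl) y hy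
    intro g hg
    rcases hg with hg | hg
    · have e := ns3.ev ρ hx hg
      rcases g3 ns3 (by decide) (by rfl) g hg with h | h
      · omega
      · exact h
    · have e := ns33.ev ρ hy hg
      rcases g3 ns33 (by decide) (by rfl) g hg with h | h
      · omega
      · exact h
  -- the elements of order 4
  have hf4 : ∀ g : A7, ct g = {4, 2} → LinearMap.trace E _ (ρ g) = -1 := by
    obtain ⟨x, y, hx, hy, hxy, hs⟩ := hsc gen7b
    have k7 := g7 _ hxy
    have k2 := (hf2 x hx).1
    have e4 : ∀ g : A7, ct g = {4, 2} → θ g ^ 4 = 1 := fun g hg => by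
      rw [← map_pow, pow_of_ct hg (by rfl), map_one]
    have e2 : ∀ g : A7, ct g = {4, 2} → g * g ≠ 1 := by
      intro g hg h
      have ho := order_of_ct hg (k := 4) (by rfl)
      have h' : orderOf g ∣ 2 := orderOf_dvd_of_pow_eq_one (by rw [pow_two]; exact h)
      rw [ho] at h'
      omega
    intro g hg
    have h15 : ev (V E (θ g * θ g)) 1 = 15 := by
      rw [← map_mul, ← hρ]
      exact (hf2 _ (type_two (by
        have := pow_of_ct hg (k := 4) (by rfl)
        rw [← this]
        simp only [pow_succ, pow_zero, one_mul, mul_assoc]) (e2 g hg))).1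
    have h := T.four_real (by norm_num) (θ g) (by rw [← map_mul]; exact hne _ (e2 g hg)) (e4 g hg) (hreal ns42 g hg)
    have e := ns42.ev ρ hy hg
    rw [hρ g] at e ⊢
    rcases h with h | h | h | h | h
    · omega
    · omega
    · omega
    · exact h.2.2.2.1
    · omega
  -- the elements of order 5
  have hf5 : ∀ g : A7, ct g = {5} → ev (ρ g) 1 = 7 ∧ LinearMap.trace E _ (ρ g) = 2 := by
    intro g hg
    have g5 : g ^ 5 = 1 := pow_of_ct hg (by rfl)
    have hg1 : g ≠ 1 := ne_one_of_ct hg (by decide)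
    obtain ⟨k, hk⟩ := ns5 g (g ^ 2) hg (type_five (by rw [← pow_mul, mul_comm, pow_mul, g5, one_pow]) (by
      intro h
      apply hg1
      have : g = (g ^ 2) ^ 3 * (g ^ 5)⁻¹ := by group
      rw [this, h, g5, one_pow, inv_one, mul_one]))
    have h := T.five_rat (by norm_num) (θ g) (hne g hg1) (by rw [← map_pow, g5, map_one])
      ⟨θ k, by rw [← map_inv, ← map_mul, ← map_mul, hk, map_pow]⟩
    exact ⟨h.1, h.2.2.1⟩
  -- the traces
  have htr : ∀ h : ↥(alternatingGroup (Fin 6)), LinearMap.trace E _ (ρ (emb 6 h)) = ((cf h : ℤ) : E) := by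
    intro h
    have hinj : ∀ {k : ↥(alternatingGroup (Fin 6))}, k ≠ 1 → emb 6 k ≠ 1 := by
      intro k hk hh
      exact hk (emb_inj 6 (hh.trans (map_one (emb 6)).symm))
    unfold cf
    by_cases c1 : h = 1
    · rw [if_pos c1, c1, map_one, map_one]
      have : LinearMap.trace E (I27 → E) 1 = (finrank E (I27 → E) : E) := LinearMap.trace_one E _
      rw [this, dim27]
      norm_num
    rw [if_neg c1]
    by_cases c2 : h * h = 1
    · rw [if_pos c2, (hf2 _ (type_two (by rw [← map_mul, c2, map_one]) (hinj c1))).2]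
      norm_num
    rw [if_neg c2]
    by_cases c3 : h * h * h = 1
    · rw [if_pos c3, (hf3 _ (type_three (by
        rw [← map_pow]
        simp only [pow_succ, pow_zero, one_mul, c3, map_one]) (hinj c1))).2]
      norm_num
    rw [if_neg c3]
    by_cases c4 : h * h * h * h = 1
    · rw [if_pos c4, hf4 _ (type_four (by
        rw [← map_pow]
        simp only [pow_succ, pow_zero, one_mul, c4, map_one]) (by rw [← map_mul]; exact hinj c2))]
      norm_num
    rw [if_neg c4, (hf5 _ (type_five (by
        rw [← map_pow]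
        have := ords h
        simp only [c1, c2, c3, c4, false_or] at this
        simp only [pow_succ, pow_zero, one_mul, this, map_one]) (hinj c1))).2]
    norm_num
  -- the dimensions of the fixed vectors
  have n360 : ((Fintype.card ↥(alternatingGroup (Fin 6)) : ℕ) : E) ≠ 0 := by
    rw [card_six]
    intro h
    have : (1 : E) = 0 := by
      rw [Nat.cast_ofNat] at h
      linear_combination (103 : E) * c7 - 2 * h
    exact one_ne_zero this
  have n60 : ((Fintype.card ↥(alternatingGroup (Fin 5)) : ℕ) : E) ≠ 0 := by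
    rw [card_five]
    intro h
    have : (1 : E) = 0 := by
      rw [Nat.cast_ofNat] at h
      linear_combination (-17 : E) * c7 + 2 * h
    exact one_ne_zero this
  have d6 := sum_trace (MonoidHom.comp ρ (emb 6) : Representation E _ (I27 → E)) n360
  have d5 := sum_trace (MonoidHom.comp ρ ((emb 6).comp (emb 5)) : Representation E _ (I27 → E)) n60
  have s6 : ∑ b, LinearMap.trace E (I27 → E) ((MonoidHom.comp ρ (emb 6) : Representation E _ (I27 → E)) b) =
      ((360 : ℤ) : E) := by
    rw [← sum_six, Int.cast_sum]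
    exact Fintype.sum_congr _ _ htr
  rw [s6] at d6
  have hcf : ∀ h : ↥(alternatingGroup (Fin 5)), cf (emb 5 h) = cf h := by
    intro h
    have hinj : ∀ {k : ↥(alternatingGroup (Fin 5))}, emb 5 k = 1 ↔ k = 1 := by
      intro k
      exact ⟨fun hh => emb_inj 5 (hh.trans (map_one (emb 5)).symm), fun hh => by rw [hh, map_one]⟩
    unfold cf
    simp only [← map_mul, hinj]
  have s5 : ∑ b, LinearMap.trace E (I27 → E) ((MonoidHom.comp ρ ((emb 6).comp (emb 5)) :
      Representation E _ (I27 → E)) b) = ((120 : ℤ) : E) := by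
    rw [← sum_five, Int.cast_sum]
    refine Fintype.sum_congr _ _ fun h => ?_
    rw [← hcf h]
    exact htr (emb 5 h)
  rw [s5] at d5
  have hn6 : Representation.invariants (MonoidHom.comp ρ (emb 6) : Representation E _ (I27 → E)) ≠ ⊥ := by
    intro h
    rw [h, finrank_bot, Nat.cast_zero, mul_zero] at d6
    apply n360
    rw [card_six]
    exact_mod_cast d6
  have hn5 : finrank E ↥(Representation.invariants (MonoidHom.comp ρ ((emb 6).comp (emb 5)) :
      Representation E _ (I27 → E))) ≤ 2 := by
    have hle : finrank E ↥(Representation.invariants (MonoidHom.comp ρ ((emb 6).comp (emb 5)) :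
      Representation E _ (I27 → E))) ≤ 7 := by
      let z : ↥(alternatingGroup (Fin 5)) := H952.F4.z5
      have hz1 : z ≠ 1 := H952.F4.Cases.Five.z5_ne
      have hz5 : z ^ 5 = 1 := H952.F4.Cases.Five.z5_five
      have hct := type_five (g := emb 6 (emb 5 z)) (by rw [← map_pow, ← map_pow, hz5, map_one, map_one]) (by
        intro h
        exact hz1 (emb_inj 5 ((emb_inj 6 (h.trans (map_one (emb 6)).symm)).trans (map_one (emb 5)).symm)))
      refine le_trans ?_ (hf5 _ hct).1.le
      apply Submodule.finrank_mono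
      intro v hv
      rw [Representation.mem_invariants] at hv
      rw [Module.End.mem_eigenspace_iff, one_smul]
      exact hv z
    generalize finrank E ↥(Representation.invariants (MonoidHom.comp ρ ((emb 6).comp (emb 5)) :
      Representation E _ (I27 → E))) = d at d5 hle
    rw [card_five] at d5
    have hd : ((d : ℤ) - 2 : ℤ) ∈ ({k : ℤ | ((k : ℤ) : E) = 0} : Set ℤ) := by
      show (((d : ℤ) - 2 : ℤ) : E) = 0
      have h60 : (60 : E) * (((d : ℤ) - 2 : ℤ) : E) = 0 := by
        push_cast at d5 ⊢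
        linear_combination -d5
      have n60' : (60 : E) ≠ 0 := by
        rw [card_five] at n60
        exact_mod_cast n60
      exact (mul_eq_zero.1 h60).resolve_left n60'
    have hd' : (7 : ℤ) ∣ (d : ℤ) - 2 := by
      have := (CharP.intCast_eq_zero_iff E 7 ((d : ℤ) - 2)).1 hd
      exact_mod_cast this
    omega
  -- the end
  exact endgame c7 (ρ := ρ) (ρ' := (MonoidHom.comp (V' E) θ : Representation E A7 (I27 → E)))
    (LinearMap.mk₂ E (fun x y => tf x y) (fun x x' y => tf_add_left x x' y) (fun c x y => tf_smul_left c x y)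
      (fun x y y' => tf_add_right x y y') (fun c x y => tf_smul_right c x y))
    (fun g x y => tf_act (θ g) x y) (fun y hy => tf_nondeg fun x => (tf_comm y x).trans (hy x))
    (fun x hx => tf_nondeg fun y => hx y) i1 h2 hn6 hn5

end

end Cfsg.Agent.H710.E6C
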