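import Mathlib
import Cfsg.Agent.H952.F4.Gen

/-!
# S5927, case `n = 7`, `p = 7`: permutations (helper710)
-/

set_option autoImplicit false

namespace Cfsg.Agent.H710.E6C

open Equiv Cfsg.Agent.H952.F4 Cfsg.Agent.H952.F4.Gen

/-- generating triple of type (3, 3², 7) -/
theorem gen7a : GenT 7 {3} {3, 3} {7} :=
  genT_of (n := 5) (c[4, 5, 6]) (c[0, 3, 6] * c[1, 2, 4]) (by decide +kernel) (by decide +kernel)
    ![[], [], [3, 1, 3, 1, 2, 0, 2], [3, 0, 3, 1, 2, 1, 2], [1, 2, 1, 3, 0], [2, 1, 3], [0, 2, 1, 3, 1]]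
    (by decide +kernel) (by decide +kernel) (by decide +kernel) (by decide +kernel)

/-- generating triple of type (2, 4, 7) -/
theorem gen7b : GenT 7 {2, 2} {4, 2} {7} :=
  genT_of (n := 5) (c[3, 4] * c[5, 6]) (c[0, 6, 1, 2] * c[3, 5]) (by decide +kernel) (by decide +kernel)
    ![[], [], [0, 3, 0, 2, 0, 3, 0, 2, 0, 3], [3, 0, 2, 2, 0, 3], [0, 3, 0, 2, 2, 0, 3, 0],
      [2, 0, 2, 0, 2, 2, 0, 2, 2, 0, 3, 0, 2], [2, 2, 0, 2, 0, 3, 0, 2, 0, 3, 0, 3]]
    (by decide +kernel) (by decide +kernel) (by decide +kernel) (by decide +kernel)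

/-! ### cycle types -/

theorem type_prime {p : ℕ} (hp : p.Prime) {g : ↥(alternatingGroup (Fin 7))} (h1 : g ^ p = 1) (h2 : g ≠ 1) :
    ∃ n, (g : Perm (Fin 7)).cycleType = Multiset.replicate (n + 1) p ∧ (n + 1) * p ≤ 7 := by
  have ho : orderOf (g : Perm (Fin 7)) = p := by
    rw [Subgroup.orderOf_coe]
    have := Fact.mk hp
    exact orderOf_eq_prime h1 h2
  obtain ⟨n, hn⟩ := Perm.cycleType_prime_order (σ := (g : Perm (Fin 7))) (by rw [ho]; exact hp)
  rw [ho] at hn
  refine ⟨n, hn, ?_⟩
  have h3 := Perm.sum_cycleType_le (g : Perm (Fin 7))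
  rw [hn, Multiset.sum_replicate, Fintype.card_fin, smul_eq_mul] at h3
  exact h3

theorem type_two {g : ↥(alternatingGroup (Fin 7))} (h1 : g * g = 1) (h2 : g ≠ 1) :
    (g : Perm (Fin 7)).cycleType = {2, 2} := by
  obtain ⟨n, hn, hle⟩ := type_prime Nat.prime_two (by rw [pow_two]; exact h1) h2
  have hs : Perm.sign (g : Perm (Fin 7)) = 1 := Perm.mem_alternatingGroup.1 g.2
  rw [Perm.sign_of_cycleType, hn, Multiset.sum_replicate, Multiset.card_replicate, smul_eq_mul] at hs
  have hn2 : n ≤ 2 := by omega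
  interval_cases n
  · exact absurd hs (by decide)
  · exact hn
  · exact absurd hs (by decide)

theorem type_three {g : ↥(alternatingGroup (Fin 7))} (h1 : g ^ 3 = 1) (h2 : g ≠ 1) :
    (g : Perm (Fin 7)).cycleType = {3} ∨ (g : Perm (Fin 7)).cycleType = {3, 3} := by
  obtain ⟨n, hn, hle⟩ := type_prime Nat.prime_three h1 h2
  have hn2 : n ≤ 1 := by omega
  interval_cases n
  · exact Or.inl hn
  · exact Or.inr hn

theorem type_five {g : ↥(alternatingGroup (Fin 7))} (h1 : g ^ 5 = 1) (h2 : g ≠ 1) :
    (g : Perm (Fin 7)).cycleType = {5} := by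
  obtain ⟨n, hn, hle⟩ := type_prime Nat.prime_five h1 h2
  have hn2 : n = 0 := by omega
  subst hn2
  exact hn

theorem type_four {g : ↥(alternatingGroup (Fin 7))} (h1 : g ^ 4 = 1) (h2 : g * g ≠ 1) :
    (g : Perm (Fin 7)).cycleType = {4, 2} := by
  have ho : orderOf (g : Perm (Fin 7)) = 4 := by
    rw [Subgroup.orderOf_coe]
    have h3 := orderOf_dvd_of_pow_eq_one h1
    have h4 : ¬ orderOf g ∣ 2 := fun h => h2 (by rw [← pow_two]; exact orderOf_dvd_iff_pow_eq_one.1 h)
    have h5 : orderOf g ≤ 4 := Nat.le_of_dvd (by norm_num) h3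
    interval_cases h : orderOf g <;> omega
  have hlcm := Perm.lcm_cycleType (g : Perm (Fin 7))
  rw [ho] at hlcm
  have hs : Perm.sign (g : Perm (Fin 7)) = 1 := Perm.mem_alternatingGroup.1 g.2
  rw [Perm.sign_of_cycleType] at hs
  have hsum := Perm.sum_cycleType_le (g : Perm (Fin 7))
  have h2le : ∀ k ∈ (g : Perm (Fin 7)).cycleType, 2 ≤ k := fun k hk => Perm.two_le_of_mem_cycleType hk
  rw [Fintype.card_fin] at hsum
  generalize (g : Perm (Fin 7)).cycleType = m at hlcm hs hsum h2le ⊢
  -- the entries are 2 or 4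
  have hent : ∀ k ∈ m, k = 2 ∨ k = 4 := by
    intro k hk
    have h3 : k ∣ 4 := by rw [← hlcm]; exact Multiset.dvd_lcm hk
    have h4 := h2le k hk
    have h5 : k ≤ 4 := Nat.le_of_dvd (by norm_num) h3
    interval_cases k <;> omega
  have hm : m = Multiset.replicate (m.count 4) 4 + Multiset.replicate (m.count 2) 2 := by
    ext k
    rw [Multiset.count_add, Multiset.count_replicate, Multiset.count_replicate]
    by_cases h4 : k = 4
    · subst h4
      simp
    · by_cases h22 : k = 2
      · subst h22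
        simp
      · rw [if_neg (fun h => h4 h.symm), if_neg (fun h => h22 h.symm), Multiset.count_eq_zero]
        intro hk
        rcases hent k hk with h | h
        · exact h22 h
        · exact h4 h
  generalize m.count 4 = a at hm
  generalize m.count 2 = b at hm
  subst hm
  rw [Multiset.sum_add, Multiset.sum_replicate, Multiset.sum_replicate, smul_eq_mul, smul_eq_mul] at hsum
  rw [Multiset.sum_add, Multiset.sum_replicate, Multiset.sum_replicate, smul_eq_mul, smul_eq_mul, Multiset.card_add,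
    Multiset.card_replicate, Multiset.card_replicate] at hs
  have ha : a ≤ 1 := by omega
  have hb : b ≤ 3 := by omega
  interval_cases a
  · -- all entries 2
    exfalso
    rw [Multiset.replicate_zero, zero_add] at hlcm
    have h5 : (Multiset.replicate b 2).lcm ∣ 2 := by
      rw [Multiset.lcm_dvd]
      intro k hk
      rw [Multiset.eq_of_mem_replicate hk]
    rw [hlcm] at h5
    omega
  · interval_cases b
    · exact absurd hs (by decide)
    · rfl
    · omega
    · omega

/-! ### embeddings -/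

/-- the embedding of alternating groups -/
def emb (n : ℕ) : ↥(alternatingGroup (Fin n)) →* ↥(alternatingGroup (Fin (n + 1))) where
  toFun h := ⟨(h : Perm (Fin n)).extendDomain (finSuccAboveEquiv (Fin.last n)), by
    rw [Perm.mem_alternatingGroup, Perm.sign_extendDomain]
    exact Perm.mem_alternatingGroup.1 h.2⟩
  map_one' := Subtype.ext (Perm.extendDomain_one _)
  map_mul' a b := Subtype.ext (Perm.extendDomain_mul _ _ _).symm

theorem emb_last (n : ℕ) (h : ↥(alternatingGroup (Fin n))) :
    ((emb n h : ↥(alternatingGroup (Fin (n + 1)))) : Perm (Fin (n + 1))) (Fin.last n) = Fin.last n :=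
  Perm.extendDomain_apply_not_subtype _ _ (fun h => h rfl)

theorem emb_castSucc (n : ℕ) (h : ↥(alternatingGroup (Fin n))) (i : Fin n) :
    ((emb n h : ↥(alternatingGroup (Fin (n + 1)))) : Perm (Fin (n + 1))) i.castSucc =
      ((h : Perm (Fin n)) i).castSucc := by
  have h1 : i.castSucc = ((finSuccAboveEquiv (Fin.last n) i : {x : Fin (n + 1) // x ≠ Fin.last n}) : Fin (n + 1)) := by
    rw [finSuccAboveEquiv_apply]
    exact (Fin.succAbove_last_apply i).symm
  rw [h1]
  refine (Perm.extendDomain_apply_image _ _ _).trans ?_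
  rw [finSuccAboveEquiv_apply]
  exact Fin.succAbove_last_apply _

theorem emb_inj (n : ℕ) : Function.Injective (emb n) := by
  intro a b hab
  apply Subtype.ext
  ext i
  have h := emb_castSucc n a i
  rw [hab, emb_castSucc] at h
  exact congrArg Fin.val (Fin.castSucc_injective n h.symm)

theorem emb_surj (n : ℕ) {g : ↥(alternatingGroup (Fin (n + 1)))}
    (hg : (g : Perm (Fin (n + 1))) (Fin.last n) = Fin.last n) : ∃ h, emb n h = g := by
  classical
  have hp : ∀ x : Fin (n + 1), (g : Perm (Fin (n + 1))) x ≠ Fin.last n ↔ x ≠ Fin.last n := by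
    intro x
    rw [not_iff_not]
    constructor
    · intro h
      rw [← hg] at h
      exact (g : Perm (Fin (n + 1))).injective h
    · rintro rfl
      exact hg
  let k : Perm {x : Fin (n + 1) // x ≠ Fin.last n} := (g : Perm (Fin (n + 1))).subtypePerm hp
  let h : Perm (Fin n) := (finSuccAboveEquiv (Fin.last n)).symm.permCongr k
  have hh : h.extendDomain (finSuccAboveEquiv (Fin.last n)) = (g : Perm (Fin (n + 1))) := by
    ext x
    by_cases hx : x = Fin.last n
    · rw [hx, Perm.extendDomain_apply_not_subtype _ _ (fun h => h rfl), hg]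
    · obtain ⟨y, hy⟩ := (finSuccAboveEquiv (Fin.last n)).surjective ⟨x, hx⟩
      have hxy : x = ((finSuccAboveEquiv (Fin.last n) y : {x : Fin (n + 1) // x ≠ Fin.last n}) : Fin (n + 1)) := by
        rw [hy]
      rw [hxy, Perm.extendDomain_apply_image]
      have e : finSuccAboveEquiv (Fin.last n) (h y) = k (finSuccAboveEquiv (Fin.last n) y) := by
        simp only [h, permCongr_apply, symm_symm, apply_symm_apply]
      rw [e]
      rfl
  refine ⟨⟨h, ?_⟩, Subtype.ext hh⟩
  have h2 : Perm.sign (h.extendDomain (finSuccAboveEquiv (Fin.last n))) = 1 := by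
    rw [hh]
    exact Perm.mem_alternatingGroup.1 g.2
  rw [Perm.sign_extendDomain] at h2
  exact Perm.mem_alternatingGroup.2 h2

end Cfsg.Agent.H710.E6C
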