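import Mathlib
import Cfsg.Agent.H710.E6C.Perm

/-!
# S5927, case `n = 7`, `p = 7`: the trace formula and the end of the argument (helper710)
-/

set_option autoImplicit false

namespace Cfsg.Agent.H710.E6C

open Equiv Module

/-- the trace formula for the fixed vectors -/
theorem sum_trace {B E V : Type*} [Group B] [Fintype B] [Field E] [AddCommGroup V] [Module E V] [FiniteDimensional E V]
    (σ : Representation E B V) (hB : (Fintype.card B : E) ≠ 0) :
    ∑ b, LinearMap.trace E V (σ b) = (Fintype.card B : E) * (finrank E ↥σ.invariants : E) := by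
  classical
  have hinv : Invertible (Fintype.card B : E) := invertibleOfNonzero hB
  have h1 := (Representation.isProj_averageMap σ).trace
  have h2 : Representation.averageMap σ = (⅟(Fintype.card B : E)) • ∑ b, σ b := by
    rw [Representation.averageMap, GroupAlgebra.average, map_smul, map_sum]
    simp only [Representation.asAlgebraHom_of]
  rw [h2, map_smul, map_sum, smul_eq_mul] at h1
  rw [← h1, ← mul_assoc, mul_invOf_self, one_mul]

/-! ### the end of the argument -/

theorem card_six : Fintype.card ↥(alternatingGroup (Fin 6)) = 360 := by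
  have h := two_mul_card_alternatingGroup (α := Fin 6)
  rw [Fintype.card_perm, Fintype.card_fin, show Nat.factorial 6 = 720 from rfl] at h
  omega

theorem card_five : Fintype.card ↥(alternatingGroup (Fin 5)) = 60 := by
  have h := two_mul_card_alternatingGroup (α := Fin 5)
  rw [Fintype.card_perm, Fintype.card_fin, show Nat.factorial 5 = 120 from rfl] at h
  omega

abbrev A7 := ↥(alternatingGroup (Fin 7))

def r7 : A7 := ⟨c[0, 1, 2, 3, 4, 5, 6], Perm.mem_alternatingGroup.2 (by decide +kernel)⟩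

/-- a permutation taking 6 to `i` -/
def cc (i : Fin 7) : A7 := r7 ^ (i.val + 1)

theorem cc_apply : ∀ i : Fin 7, (cc i : Perm (Fin 7)) 6 = i := by decide +kernel

/-- an even permutation fixing 6 taking 5 to `i` -/
def dd (i : Fin 7) : Perm (Fin 7) :=
  ![swap 5 0 * swap 0 1, swap 5 1 * swap 1 2, swap 5 2 * swap 2 1, swap 5 3 * swap 3 1, swap 5 4 * swap 4 1, 1, 1] i

theorem dd_sign : ∀ i : Fin 7, Perm.sign (dd i) = 1 := by decide +kernel
theorem dd_six : ∀ i : Fin 7, dd i 6 = 6 := by decide +kernel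
theorem dd_five : ∀ i : Fin 7, i ≠ 6 → dd i 5 = i := by decide +kernel

/-- an even permutation interchanging 5 and 6 -/
def ss : A7 := ⟨swap 5 6 * swap 0 1, Perm.mem_alternatingGroup.2 (by decide +kernel)⟩

section

variable {E V : Type*} [Field E] [AddCommGroup V] [Module E V]

/-- the conjugates of a vector fixed by the stabilizer of 6 -/
def av (ρ : Representation E A7 V) (a : V) (i : Fin 7) : V := ρ (cc i) a

theorem act_inv (ρ : Representation E A7 V) (g : A7) (x : V) : ρ g (ρ g⁻¹ x) = x := by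
  rw [← Module.End.mul_apply, ← map_mul, mul_inv_cancel, map_one]
  rfl

theorem av_act {ρ : Representation E A7 V} {a : V} (ha : ∀ g : A7, (g : Perm (Fin 7)) 6 = 6 → ρ g a = a) (g : A7)
    (i : Fin 7) : ρ g (av ρ a i) = av ρ a ((g : Perm (Fin 7)) i) := by
  have h1 : ρ ((cc ((g : Perm (Fin 7)) i))⁻¹ * (g * cc i)) a = a := by
    apply ha
    show ((cc ((g : Perm (Fin 7)) i) : Perm (Fin 7)))⁻¹ ((g : Perm (Fin 7)) ((cc i : Perm (Fin 7)) 6)) = 6
    rw [cc_apply, Perm.inv_eq_iff_eq, cc_apply]
  unfold av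
  conv_rhs => rw [← h1]
  rw [← Module.End.mul_apply, ← Module.End.mul_apply, ← map_mul, ← map_mul, mul_inv_cancel_left]

theorem av_six {ρ : Representation E A7 V} {a : V} (ha : ∀ g : A7, (g : Perm (Fin 7)) 6 = 6 → ρ g a = a) :
    av ρ a 6 = a := ha _ (cc_apply 6)

theorem sum_av {ρ : Representation E A7 V} (h1 : ρ.invariants = ⊥) {a : V}
    (ha : ∀ g : A7, (g : Perm (Fin 7)) 6 = 6 → ρ g a = a) : ∑ i, av ρ a i = 0 := by
  have h : ∑ i, av ρ a i ∈ ρ.invariants := by
    rw [Representation.mem_invariants]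
    intro g
    rw [map_sum]
    refine Fintype.sum_equiv (g : Perm (Fin 7)) _ _ fun i => ?_
    exact av_act ha g i
  rwa [h1, Submodule.mem_bot] at h

/-- if two conjugates are equal, then the vector is 0 -/
theorem av_ne {ρ : Representation E A7 V} (h1 : ρ.invariants = ⊥) {a : V}
    (ha : ∀ g : A7, (g : Perm (Fin 7)) 6 = 6 → ρ g a = a) (h56 : av ρ a 5 = av ρ a 6) : a = 0 := by
  have h2 : ∀ i, av ρ a i = a := by
    intro i
    by_cases hi : i = 6
    · rw [hi, av_six ha]
    · have h3 := congrArg (ρ (⟨dd i, Perm.mem_alternatingGroup.2 (dd_sign i)⟩ : A7)) h56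
      rw [av_act ha, av_act ha] at h3
      have h4 : av ρ a (dd i 5) = av ρ a (dd i 6) := h3
      rw [dd_six, dd_five i hi, av_six ha] at h4
      exact h4
  have h : a ∈ ρ.invariants := by
    rw [Representation.mem_invariants]
    intro g
    have h3 := av_act ha g 6
    rwa [h2, h2] at h3
  rwa [h1, Submodule.mem_bot] at h

variable [FiniteDimensional E V]

theorem endgame (h7 : (7 : E) = 0) {ρ ρ' : Representation E A7 V} (β : V →ₗ[E] V →ₗ[E] E)
    (hβ : ∀ g x y, β (ρ g x) (ρ' g y) = β x y) (hnd : ∀ y, (∀ x, β x y = 0) → y = 0)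
    (hnd' : ∀ x, (∀ y, β x y = 0) → x = 0)
    (h1 : ρ.invariants = ⊥) (h1' : ρ'.invariants = ⊥)
    (h6 : Representation.invariants (MonoidHom.comp ρ (emb 6) : Representation E _ V) ≠ ⊥)
    (h5 : finrank E ↥(Representation.invariants (MonoidHom.comp ρ ((emb 6).comp (emb 5)) : Representation E _ V)) ≤ 2) :
    False := by
  -- the vectors
  obtain ⟨a, haM, ha0⟩ := Submodule.exists_mem_ne_zero_of_ne_bot h6
  rw [Representation.mem_invariants] at haM
  have ha : ∀ g : A7, (g : Perm (Fin 7)) 6 = 6 → ρ g a = a := by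
    intro g hg
    obtain ⟨h, rfl⟩ := emb_surj 6 (g := g) hg
    exact haM h
  have hy : ∃ y, β a y ≠ 0 := by
    by_contra hne
    push Not at hne
    exact ha0 (hnd' a hne)
  obtain ⟨y, hy⟩ := hy
  have c360 : ((360 : ℕ) : E) ≠ 0 := by
    intro h
    have e : (360 : E) = 7 * 51 + 3 := by norm_num
    have h3 : (3 : E) = 0 := by
      rw [Nat.cast_ofNat, e, h7, zero_mul, zero_add] at h
      exact h
    have : (1 : E) = 0 := by linear_combination h7 - 2 * h3
    exact one_ne_zero this
  have c60 : ((60 : ℕ) : E) ≠ 0 := by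
    intro h
    have : (1 : E) = 0 := by
      rw [Nat.cast_ofNat] at h
      linear_combination (-17 : E) * h7 + 2 * h
    exact one_ne_zero this
  have hadj : ∀ g x z, β x (ρ' g z) = β (ρ g⁻¹ x) z := by
    intro g x z
    rw [← hβ g (ρ g⁻¹ x) z, act_inv]
  obtain ⟨b, hbdef⟩ : ∃ b, b = ∑ h : ↥(alternatingGroup (Fin 6)), ρ' (emb 6 h) y := ⟨_, rfl⟩
  have hab : β a b ≠ 0 := by
    rw [hbdef, map_sum]
    have h2 : ∀ h : ↥(alternatingGroup (Fin 6)), β a (ρ' (emb 6 h) y) = β a y := by
      intro h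
      rw [hadj, ← map_inv, ha _ (emb_last 6 h⁻¹)]
    rw [Finset.sum_congr rfl fun h _ => h2 h, Finset.sum_const, Finset.card_univ, nsmul_eq_mul]
    rw [card_six]
    exact mul_ne_zero c360 hy
  have hb : ∀ g : A7, (g : Perm (Fin 7)) 6 = 6 → ρ' g b = b := by
    intro g hg
    obtain ⟨h, rfl⟩ := emb_surj 6 (g := g) hg
    rw [hbdef, map_sum]
    refine Fintype.sum_equiv (Equiv.mulLeft h) _ _ fun k => ?_
    rw [Equiv.coe_mulLeft, map_mul, map_mul]
    rfl
  have hb0 : b ≠ 0 := by
    rintro rfl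
    exact hab (map_zero _)
  obtain ⟨c, hc⟩ : ∃ c, c = β a b := ⟨_, rfl⟩
  rw [← hc] at hab
  -- the matrix of the pairing
  have hact : ∀ (g : A7) i j, β (av ρ a i) (av ρ' b j) = β (av ρ a ((g : Perm (Fin 7)) i)) (av ρ' b ((g : Perm (Fin 7)) j)) := by
    intro g i j
    rw [← av_act ha, ← av_act hb, hβ]
  have h66 : β (av ρ a 6) (av ρ' b 6) = c := by rw [av_six ha, av_six hb, hc]
  have hi6 : ∀ i, i ≠ 6 → β (av ρ a i) (av ρ' b 6) = β (av ρ a 5) (av ρ' b 6) := by
    intro i hi
    have h := hact (⟨dd i, Perm.mem_alternatingGroup.2 (dd_sign i)⟩ : A7) 5 6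
    have h' : β (av ρ a 5) (av ρ' b 6) = β (av ρ a (dd i 5)) (av ρ' b (dd i 6)) := h
    rw [dd_six, dd_five i hi] at h'
    exact h'.symm
  have h56 : β (av ρ a 5) (av ρ' b 6) = c := by
    have h := congrArg (fun v => β v (av ρ' b 6)) (sum_av h1 ha)
    simp only [map_sum, LinearMap.sum_apply, map_zero, LinearMap.zero_apply] at h
    rw [Fin.sum_univ_seven, hi6 0 (by decide), hi6 1 (by decide), hi6 2 (by decide), hi6 3 (by decide),
      hi6 4 (by decide), h66] at h
    linear_combination (-1 : E) * h + β (av ρ a 5) (av ρ' b 6) * h7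
  have h65 : β (av ρ a 6) (av ρ' b 5) = c := by
    rw [hact ss]
    have e1 : (ss : Perm (Fin 7)) 6 = 5 := by decide +kernel
    have e2 : (ss : Perm (Fin 7)) 5 = 6 := by decide +kernel
    rw [e1, e2, h56]
  have h55 : β (av ρ a 5) (av ρ' b 5) = c := by
    rw [hact ss]
    have e2 : (ss : Perm (Fin 7)) 5 = 6 := by decide +kernel
    rw [e2, h66]
  -- the fixed vectors of `A₅`
  have hmemfix : ∀ (σ : Representation E A7 V) (v : V), (∀ g : A7, (g : Perm (Fin 7)) 6 = 6 → σ g v = v) →
      ∀ i, i = 5 ∨ i = 6 → av σ v i ∈ Representation.invariants (MonoidHom.comp σ ((emb 6).comp (emb 5)) : Representation E _ V) := by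
    intro σ v hv i hi
    rw [Representation.mem_invariants]
    intro h
    show σ (emb 6 (emb 5 h)) (av σ v i) = av σ v i
    rw [av_act hv]
    congr 1
    rcases hi with rfl | rfl
    · have e := emb_castSucc 6 (emb 5 h) 5
      have e' : ((emb 5 h : ↥(alternatingGroup (Fin 6))) : Perm (Fin 6)) 5 = 5 := emb_last 5 h
      rw [e'] at e
      exact e
    · exact emb_last 6 _
  have hne : av ρ a 5 ≠ av ρ a 6 := fun h => ha0 (av_ne h1 ha h)
  have hli : LinearIndependent E ![av ρ a 5, av ρ a 6] := by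
    rw [LinearIndependent.pair_iff]
    intro s t hst
    have h := congrArg (fun v => β v (av ρ' b 6)) hst
    simp only [map_add, map_smul, LinearMap.add_apply, LinearMap.smul_apply, map_zero, LinearMap.zero_apply, h56, h66,
      smul_eq_mul] at h
    have h2 : s + t = 0 := by
      have : (s + t) * c = 0 := by linear_combination h
      exact (mul_eq_zero.1 this).resolve_right hab
    have h3 : t = -s := by linear_combination h2
    rw [h3, neg_smul, ← sub_eq_add_neg, ← smul_sub] at hst
    have h4 : s = 0 := (smul_eq_zero.1 hst).resolve_right (sub_ne_zero.2 hne)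
    exact ⟨h4, by rw [h3, h4, neg_zero]⟩
  obtain ⟨U, hU⟩ : ∃ U, U = Representation.invariants (MonoidHom.comp ρ ((emb 6).comp (emb 5)) : Representation E _ V) := ⟨_, rfl⟩
  rw [← hU] at h5
  have hspan : Submodule.span E (Set.range ![av ρ a 5, av ρ a 6]) = U := by
    apply Submodule.eq_of_le_of_finrank_le
    · rw [Submodule.span_le]
      rintro _ ⟨i, rfl⟩
      rw [hU]
      fin_cases i
      · exact hmemfix ρ a ha 5 (Or.inl rfl)
      · exact hmemfix ρ a ha 6 (Or.inr rfl)
    · rw [finrank_span_eq_card hli, Fintype.card_fin]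
      exact h5
  -- the difference is orthogonal to everything
  have horth : ∀ x ∈ U, β x (av ρ' b 5 - av ρ' b 6) = 0 := by
    intro x hx
    rw [← hspan] at hx
    induction hx using Submodule.span_induction with
    | mem x hx =>
      obtain ⟨i, rfl⟩ := hx
      fin_cases i
      · show β (av ρ a 5) (av ρ' b 5 - av ρ' b 6) = 0
        rw [map_sub, h55, h56, sub_self]
      · show β (av ρ a 6) (av ρ' b 5 - av ρ' b 6) = 0
        rw [map_sub, h65, h66, sub_self]
    | zero => rw [map_zero, LinearMap.zero_apply]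
    | add x y _ _ hx hy => rw [map_add, LinearMap.add_apply, hx, hy, add_zero]
    | smul s x _ hx => rw [map_smul, LinearMap.smul_apply, hx, smul_zero]
  have hfix : ∀ h : ↥(alternatingGroup (Fin 5)), ρ' (emb 6 (emb 5 h)) (av ρ' b 5 - av ρ' b 6) = av ρ' b 5 - av ρ' b 6 := by
    intro h
    have e5 := (Representation.mem_invariants _ _).1 (hmemfix ρ' b hb 5 (Or.inl rfl)) h
    have e6 := (Representation.mem_invariants _ _).1 (hmemfix ρ' b hb 6 (Or.inr rfl)) h
    rw [map_sub]
    exact congrArg₂ (· - ·) e5 e6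
  have hz : av ρ' b 5 - av ρ' b 6 = 0 := by
    apply hnd
    intro x
    have h2 : ∑ h : ↥(alternatingGroup (Fin 5)), ρ (emb 6 (emb 5 h)) x ∈ U := by
      rw [hU, Representation.mem_invariants]
      intro g
      rw [map_sum]
      refine Fintype.sum_equiv (Equiv.mulLeft g) _ _ fun k => ?_
      rw [Equiv.coe_mulLeft, map_mul, map_mul, map_mul]
      rfl
    have h3 := horth _ h2
    have h3' : ∑ h : ↥(alternatingGroup (Fin 5)), β (ρ (emb 6 (emb 5 h)) x) (av ρ' b 5 - av ρ' b 6) = 0 := by
      rw [← h3]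
      exact (map_sum (β.flip (av ρ' b 5 - av ρ' b 6)) (fun h => ρ (emb 6 (emb 5 h)) x) Finset.univ).symm
    have h4 : ∀ h : ↥(alternatingGroup (Fin 5)), β (ρ (emb 6 (emb 5 h)) x) (av ρ' b 5 - av ρ' b 6) =
        β x (av ρ' b 5 - av ρ' b 6) := by
      intro h
      rw [← hβ (emb 6 (emb 5 h)) x, hfix]
    rw [Finset.sum_congr rfl fun h _ => h4 h, Finset.sum_const, Finset.card_univ, nsmul_eq_mul, card_five] at h3'
    exact (mul_eq_zero.1 h3').resolve_left c60
  exact hb0 (av_ne h1' hb (sub_eq_zero.1 hz))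

end

end Cfsg.Agent.H710.E6C
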